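import Groth.Agent.DerivedCoh.StalkAmp.Descent
import Groth.Agent.DerivedCoh.StalkAmp.Perfect
import Groth.Agent.DerivedCoh.Fibre.Concentrated
import Groth.Agent.DAlg.PerfectAmp
import Groth.Agent.Calg1.PseudoCoherentBasic
import Groth.Agent.Calg1.DualSchLocal
import Groth.Agent.PropsBasic.FPSections
import Groth.Agent.S12451
import Groth.Agent.S1121

/-!
Pseudo-coherence, tor amplitude and perfection of `M~` against those of `M`.
-/

universe u

open CategoryTheory CategoryTheory.Limits CategoryTheory.Pretriangulated AlgebraicGeometry HomologicalComplex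
open Groth.DerivedCoh.KFlat (stk)
open Groth.DerivedCoh.PCoh (Near Below)
open Groth.KTheory.Perf (Rd Rc rdQIso)
open Groth.FlatCxBase (Coker)

namespace Groth.DerivedCoh.TildeD

noncomputable section

attribute [local instance] HasDerivedCategory.standard

local notation "up" => ComplexShape.up ℤ

variable (A : Type u) [CommRing A] [PreservesFiniteLimits (tilde.functor (CommRingCat.of A))]

local notation "RA" => CommRingCat.of A

instance additive_tilde : (tilde.functor RA).Additive :=
  (fun (S : CommRingCat.{u}) => (inferInstance : (tilde.functor S).Additive)) _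

lemma preservesFiniteColimits : PreservesFiniteColimits (tilde.functor RA) :=
  haveI := (tilde.adjunction (R := RA)).leftAdjoint_preservesColimits
  inferInstance

attribute [local instance] preservesFiniteColimits

variable {A}

lemma isZero_of_tilde {N : ModuleCat.{u} A} (h : IsZero ((tilde.functor RA).obj N)) : IsZero N :=
  haveI := (tilde.adjunction (R := RA)).isRightAdjoint
  (moduleSpecΓFunctor.map_isZero h).of_iso ((tilde.toTildeΓNatIso (R := RA)).app N)

lemma isZero_HD_iff (M : Dual.D A) (i : ℤ) :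
    IsZero (DCoh.HD ((DCoh.tildeD RA).obj M) i) ↔
      IsZero ((DerivedCategory.homologyFunctor (ModuleCat.{u} A) i).obj M) := by
  obtain ⟨e⟩ := Groth.Calg1.DualSch.nonempty_homology_tildeD RA M i
  exact ⟨fun h => isZero_of_tilde (h.of_iso e.symm), fun h => ((tilde.functor RA).map_isZero h).of_iso e⟩

lemma near_tildeD {m : ℤ} {K L : Dual.D A} {α : K ⟶ L} (h : Near m α) :
    Near m ((DCoh.tildeD RA).map α) := by
  obtain ⟨C, p, q, hT⟩ := distinguished_cocone_triangle α
  exact PCoh.near_of_below _ ((DCoh.tildeD RA).map_distinguished _ hT)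
    (fun i hi => (isZero_HD_iff C i).2 (PCoh.below_of_near _ hT h i hi))

/-- tilde of a bounded complex of finite projective modules -/
lemma isStrictlyPerfect_tilde {E : DRing.Cx A} {a b : ℤ} (hE : DRing.VanishesOutside E a b)
    (hf : ∀ i, Module.Finite A (E.X i) ∧ Module.Projective A (E.X i)) :
    DCoh.IsStrictlyPerfect (((tilde.functor RA).mapHomologicalComplex up).obj E) :=
  ⟨⟨a, b, fun i hi => (tilde.functor RA).map_isZero (hE i hi)⟩,
    fun i => (Groth.Agent.S12451.result (R := RA) (E.X i : ModuleCat.{u} A)).2 (hf i)⟩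

lemma finProj_of_termwiseFree {E : DRing.Cx A} (hf : DRing.TermwiseFiniteFree E) (i : ℤ) :
    Module.Finite A (E.X i) ∧ Module.Projective A (E.X i) :=
  ⟨(hf i).1, haveI := (hf i).2; inferInstance⟩

lemma isPseudoCoherentD_mono {X : Scheme.{u}} {K : DCoh.D X} {m m' : ℤ} (h : DCoh.IsPseudoCoherentD m K)
    (hm : m ≤ m') : DCoh.IsPseudoCoherentD m' K := by
  rw [PCoh.isPseudoCoherentD_iff] at h ⊢
  exact fun x => let ⟨V, hx, hV⟩ := h x; ⟨V, hx, hV.mono hm⟩

theorem pseudoCoherent_tildeD {M : Dual.D A} {m : ℤ} (h : DRing.IsPseudoCoherent A m M) :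
    DCoh.IsPseudoCoherentD m ((DCoh.tildeD RA).obj M) := by
  obtain ⟨E, a, b, α, hE, hf, h1, h2⟩ := h
  rw [PCoh.isPseudoCoherentD_iff]
  intro x
  let P := ((tilde.functor RA).mapHomologicalComplex up).obj E
  have hP := isStrictlyPerfect_tilde hE (finProj_of_termwiseFree hf)
  let γ : DCoh.toD _ P ⟶ (DCoh.tildeD RA).obj M :=
    ((tilde.functor RA).mapDerivedCategoryFactors.app E).inv ≫ (DCoh.tildeD RA).map α
  have hγ : Near m γ := (PCoh.near_of_isIso _).comp (near_tildeD ⟨h1, h2⟩)
  exact ⟨⊤, trivial, _, (rdQIso _ P).inv ≫ (Rd (⊤ : (Spec RA).Opens).ι).map γ,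
    Groth.KTheory.Perf.rc_isStrictlyPerfect _ hP,
    (PCoh.near_of_isIso _).comp (PCoh.near_rd _ hγ)⟩

/-- pseudo-coherent objects on a quasi-compact scheme are bounded above -/
lemma exists_bound {X : Scheme.{u}} [CompactSpace X] {K : DCoh.D X} {m : ℤ}
    (h : DCoh.IsPseudoCoherentD m K) : ∃ b : ℤ, ∀ i, b < i → IsZero (DCoh.HD K i) := by
  rw [PCoh.isPseudoCoherentD_iff] at h
  choose V hxV hV using h
  obtain ⟨t, ht⟩ := isCompact_univ.elim_finite_subcover (fun x => (V x : Set X)) (fun x => (V x).2)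
    (fun x _ => Set.mem_iUnion.2 ⟨x, hxV x⟩)
  have hb : ∀ x, ∃ b : ℤ, ∀ i, b < i → IsZero ((DCoh.HD K i).restrict (V x).ι) := fun x => by
    obtain ⟨E, α, ⟨⟨a, b, hab⟩, -⟩, hα⟩ := hV x
    refine ⟨max m b, fun i hi => ?_⟩
    have := hα.1 i (by omega)
    exact ((ExactAt.of_isZero (hab i (.inr (by omega)))).isZero_homology.of_iso
      ((asIso ((DerivedCategory.homologyFunctor _ i).map α)).symm ≪≫
        (DerivedCategory.homologyFunctorFactors _ i).app E)).of_iso
      (Groth.KTheory.Perf.nonempty_hdRd (V x).ι K i).some.symm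
  choose b hb using hb
  obtain ⟨B, hB⟩ : ∃ B : ℤ, ∀ x ∈ t, b x ≤ B := by
    obtain ⟨B, hB⟩ := (t.image b).bddAbove
    exact ⟨B, fun x hx => hB (Finset.mem_coe.2 (Finset.mem_image_of_mem b hx))⟩
  refine ⟨B, fun i hi => Groth.KTheory.Perf.isZero_of_local fun y => ?_⟩
  obtain ⟨x, hx, hy⟩ := Set.mem_iUnion₂.1 (ht (Set.mem_univ y))
  exact ⟨V x, hy, hb x i (lt_of_le_of_lt (hB x hx) hi)⟩

lemma isIso_of_zeros {C : Type*} [Category C] [HasZeroMorphisms C] {X Y : C} (hX : IsZero X)
    (hY : IsZero Y) (f : X ⟶ Y) : IsIso f :=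
  ⟨0, hX.eq_of_src _ _, hY.eq_of_src _ _⟩

lemma isPseudoCoherent_congr {K L : Dual.D A} (e : K ≅ L) {m : ℤ}
    (h : DRing.IsPseudoCoherent A m K) : DRing.IsPseudoCoherent A m L := by
  obtain ⟨E, a, b, α, hE, hf, h1, h2⟩ := h
  exact ⟨E, a, b, α ≫ e.hom, hE, hf, (Near.comp (⟨h1, h2⟩ : Near m α) (PCoh.near_of_isIso e.hom)).1,
    (Near.comp (⟨h1, h2⟩ : Near m α) (PCoh.near_of_isIso e.hom)).2⟩

/-- induction on the top cohomology -/
theorem pseudoCoherent_of_tildeD_aux (n : ℕ) : ∀ (M : Dual.D A) (m : ℤ),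
    DCoh.IsPseudoCoherentD m ((DCoh.tildeD RA).obj M) →
    (∀ i, m + n ≤ i → IsZero ((DerivedCategory.homologyFunctor (ModuleCat.{u} A) i).obj M)) →
    DRing.IsPseudoCoherent A m M := by
  induction n with
  | zero =>
    intro M m _ hM
    have hz : ∀ j, IsZero ((HomologicalComplex.zero : DRing.Cx A).X j) := fun j => isZero_zero _
    have hH : ∀ i, IsZero ((DerivedCategory.homologyFunctor (ModuleCat.{u} A) i).obj
        (DRing.toD (HomologicalComplex.zero : DRing.Cx A))) := fun i =>
      (ExactAt.of_isZero (hz i)).isZero_homology.of_iso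
        ((DerivedCategory.homologyFunctorFactors _ i).app _)
    refine ⟨HomologicalComplex.zero, 0, 0, 0, fun i _ => hz i, fun i => ?_,
      fun i hi => isIso_of_zeros (hH i) (hM i (by simp; omega)) _,
      ⟨fun g g' _ => (hM m (by simp)).eq_of_src _ _⟩⟩
    have := ModuleCat.subsingleton_of_isZero (hz i)
    exact ⟨inferInstance, inferInstance⟩
  | succ n ih =>
    intro M m hM hb
    let t : ℤ := m + n
    have htop : ∀ i, t < i → IsZero (DCoh.HD ((DCoh.tildeD RA).obj M) i) := fun i hi =>
      (isZero_HD_iff M i).2 (hb i (by push_cast; omega))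
    have hft := PCoh.isFT_top (isPseudoCoherentD_mono hM (by omega : m ≤ t)) htop
    obtain ⟨eH⟩ := Groth.Calg1.DualSch.nonempty_homology_tildeD RA M t
    have hfin : Module.Finite A ((DerivedCategory.homologyFunctor (ModuleCat.{u} A) t).obj M) :=
      (Groth.PropsBasic.FPSections.isFT_tilde_iff (R := RA) _).1
        (Groth.QCohMod.isFT_of_iso eH hft)
    -- a bounded above representative
    let C₀ := DerivedCategory.Q.objPreimage M
    let e₀ : DRing.toD C₀ ≅ M := DerivedCategory.Q.objObjPreimageIso M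
    have hle : C₀.IsLE t := (CochainComplex.isLE_iff C₀ t).2 fun i hi => by
      rw [exactAt_iff_isZero_homology]
      exact (hb i (by push_cast; omega)).of_iso
        (((DerivedCategory.homologyFunctorFactors _ i).app C₀).symm ≪≫
          (DerivedCategory.homologyFunctor _ i).mapIso e₀)
    let C := C₀.truncLE t
    have hC : ∀ i, t < i → IsZero (C.X i) := fun i hi => C₀.truncLE t |>.isZero_of_isStrictlyLE t i hi
    let eC : DRing.toD C ≅ M := asIso (DerivedCategory.Q.map (C₀.ιTruncLE t)) ≪≫ e₀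
    have hfin' : Module.Finite A (C.homology t) := @Module.Finite.equiv _ _ _ _ _ _ _ _ hfin
      (((DerivedCategory.homologyFunctorFactors _ t).app C).symm ≪≫
        (DerivedCategory.homologyFunctor _ t).mapIso eC).symm.toLinearEquiv
    obtain ⟨k, g, hg⟩ := Module.Finite.exists_fin' A (C.homology t)
    have hcy : Function.Surjective (C.homologyπ t) :=
      (ModuleCat.epi_iff_surjective _).1 inferInstance
    obtain ⟨g', hg'⟩ := Module.projective_lifting_property (C.homologyπ t).hom g hcy
    let F : DRing.Cx A := (HomologicalComplex.single (ModuleCat.{u} A) up t).obj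
      (ModuleCat.of A (Fin k → A))
    let φ : F ⟶ C := HomologicalComplex.mkHomFromSingle (ModuleCat.ofHom g' ≫ C.iCycles t)
      fun j hj => (hC j (by simp at hj; omega)).eq_of_tgt _ _
    have hFX : ∀ i, i ≠ t → IsZero (F.X i) := fun i hi =>
      HomologicalComplex.isZero_single_obj_X _ t _ i hi
    have hFf : DRing.TermwiseFiniteFree F := fun i => by
      by_cases hi : i = t
      · rw [hi]
        let e : (ModuleCat.of A (Fin k → A)) ≅ F.X t := (HomologicalComplex.singleObjXSelf up t _).symm
        exact ⟨Module.Finite.equiv e.toLinearEquiv, Module.Free.of_equiv e.toLinearEquiv⟩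
      · have := ModuleCat.subsingleton_of_isZero (hFX i hi)
        exact ⟨inferInstance, inferInstance⟩
    have hπ : Epi (homologyMap φ t) := by
      let u : ModuleCat.of A (Fin k → A) ⟶ F.cycles t :=
        F.liftCycles (HomologicalComplex.singleObjXSelf up t _).inv (t + 1) (by simp)
          ((hFX (t + 1) (by omega)).eq_of_tgt _ _)
      have hu : u ≫ F.homologyπ t ≫ homologyMap φ t = ModuleCat.ofHom g := by
        rw [homologyπ_naturality]
        have : u ≫ cyclesMap φ t = ModuleCat.ofHom g' := by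
          rw [← cancel_mono (C.iCycles t), Category.assoc, cyclesMap_i, liftCycles_i_assoc]
          simp [φ]
        rw [← Category.assoc, this]
        exact ModuleCat.hom_ext hg'
      have : Epi (u ≫ F.homologyπ t ≫ homologyMap φ t) := by
        rw [hu]; exact (ModuleCat.epi_iff_surjective _).2 hg
      have : Epi (F.homologyπ t ≫ homologyMap φ t) := epi_of_epi u _
      exact epi_of_epi (F.homologyπ t) _
    have hnear : Near t (DerivedCategory.Q.map φ) := by
      refine ⟨fun i hi => isIso_of_zeros ?_ ?_ _, ?_⟩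
      · exact (ExactAt.of_isZero (hFX i (by omega))).isZero_homology.of_iso
          ((DerivedCategory.homologyFunctorFactors _ i).app F)
      · exact (ExactAt.of_isZero (hC i hi)).isZero_homology.of_iso
          ((DerivedCategory.homologyFunctorFactors _ i).app C)
      · exact ((MorphismProperty.epimorphisms _).arrow_mk_iso_iff
          (Arrow.isoOfNatIso (DerivedCategory.homologyFunctorFactors _ t) (Arrow.mk φ))).2 hπ
    let Tr := DerivedCategory.Q.mapTriangle.obj (CochainComplex.mappingCone.triangle φ)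
    have hTr := DerivedCategory.mappingCone_triangle_distinguished φ
    have hB := PCoh.below_of_near _ hTr hnear
    have hFp : ∀ m', DRing.IsPseudoCoherent A m' (DRing.toD F) := fun m' =>
      ⟨F, t, t, 𝟙 _, fun i hi => hFX i (by omega), hFf, fun i _ => inferInstance, inferInstance⟩
    have h3 : DCoh.IsPseudoCoherentD m ((DCoh.tildeD RA).obj Tr.obj₃) :=
      PCoh.isPseudoCoherentD_obj₃ _ ((DCoh.tildeD RA).map_distinguished _ hTr)
        (pseudoCoherent_tildeD (hFp (m + 1)))
        (PCoh.isPseudoCoherentD_of_iso ((DCoh.tildeD RA).mapIso eC.symm) hM)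
    have h3' : DRing.IsPseudoCoherent A m Tr.obj₃ := ih Tr.obj₃ m h3 fun i hi => hB i hi
    exact isPseudoCoherent_congr eC
      ((Groth.Calg1.isPseudoCoherent_triangle Tr hTr m).2.1 (hFp m) h3')

theorem isPseudoCoherentD_tildeD_iff (M : Dual.D A) (m : ℤ) :
    DCoh.IsPseudoCoherentD m ((DCoh.tildeD RA).obj M) ↔ DRing.IsPseudoCoherent A m M := by
  refine ⟨fun h => ?_, pseudoCoherent_tildeD⟩
  obtain ⟨b, hb⟩ := exists_bound h
  exact pseudoCoherent_of_tildeD_aux (b + 1 - m).toNat M m h fun i hi =>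
    (isZero_HD_iff M i).1 (hb i (by omega))

/-- stalks of `C~` -/
lemma flat_of_stalk_tilde (C : ModuleCat.{u} A)
    (h : ∀ x : Spec RA, Module.Flat ((Spec RA).presheaf.stalk x) ((stk x).obj ((tilde.functor RA).obj C))) :
    Module.Flat A C := by
  refine Module.flat_of_localized_maximal (R := A) (M := C) fun P _ => ?_
  let x : Spec RA := (⟨P, inferInstance⟩ : PrimeSpectrum A)
  let φ := (Groth.Agent.S1121.toStalkRing x).hom
  letI := φ.toAlgebra
  have hφ : (φ : A →+* (Spec RA).presheaf.stalk x) =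
      @algebraMap A ((Spec RA).presheaf.stalk x) _ _
        (inferInstanceAs (Algebra RA ((Spec.structureSheaf RA).presheaf.stalk x))) := rfl
  have hloc : IsLocalization.AtPrime ((Spec RA).presheaf.stalk x) P := by
    have h0 : @IsLocalization.AtPrime A _ ((Spec RA).presheaf.stalk x) _
        (inferInstanceAs (Algebra RA ((Spec.structureSheaf RA).presheaf.stalk x))) P _ :=
      StructureSheaf.IsLocalization.to_stalk RA x
    have e : φ.toAlgebra = (inferInstanceAs (Algebra RA ((Spec.structureSheaf RA).presheaf.stalk x))) :=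
      Algebra.algebra_ext _ _ fun r => congrArg (fun k : A →+* _ => k r) hφ
    exact (congrArg (fun a => @IsLocalization.AtPrime A _ ((Spec RA).presheaf.stalk x) _ a P _) e).mpr h0
  have h1 : Module.Flat ((Spec RA).presheaf.stalk x)
      (TensorProduct A ((Spec RA).presheaf.stalk x) C) := by
    haveI : Module.Flat ((Spec RA).presheaf.stalk x) ((stk x).obj ((tilde.functor RA).obj C)) := h x
    exact Module.Flat.of_linearEquiv (M := (stk x).obj ((tilde.functor RA).obj C))
      (show TensorProduct A ((Spec RA).presheaf.stalk x) C ≃ₗ[(Spec RA).presheaf.stalk x] _ from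
        ((Groth.Agent.S1121.tildeStkIso x).app C).symm.toLinearEquiv)
  have : Module.Flat A ((Spec RA).presheaf.stalk x) :=
    IsLocalization.flat ((Spec RA).presheaf.stalk x) P.primeCompl
  have : Module.Flat A (TensorProduct A ((Spec RA).presheaf.stalk x) C) :=
    Module.Flat.trans A ((Spec RA).presheaf.stalk x) _
  have hm : IsLocalizedModule P.primeCompl (TensorProduct.mk A ((Spec RA).presheaf.stalk x) C 1) :=
    (isLocalizedModule_iff_isBaseChange P.primeCompl ((Spec RA).presheaf.stalk x) _).2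
      (TensorProduct.isBaseChange A C ((Spec RA).presheaf.stalk x))
  exact Module.Flat.of_linearEquiv (IsLocalizedModule.iso P.primeCompl
    (TensorProduct.mk A ((Spec RA).presheaf.stalk x) C 1))

theorem hasFlatAmplitudeIn_tildeD_iff (M : Dual.D A) (a b : ℤ) :
    DCoh.HasFlatAmplitudeIn a b ((DCoh.tildeD RA).obj M) ↔ DRing.HasTorAmplitudeIn A a b M := by
  constructor
  · intro h
    have hz : ∀ i, b < i → Subsingleton (Dual.HD A M i) := fun i hi => by
      obtain ⟨E, hE, -, ⟨e⟩⟩ := h
      exact ModuleCat.subsingleton_of_isZero ((isZero_HD_iff M i).1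
        (KFlat.isZero_hd_of_iso e.symm ((KFlat.isZero_hd_toD_iff E i).2
          (ExactAt.of_isZero (hE i (.inr hi))))))
    obtain ⟨Q, hQ, hQf, ⟨eQ⟩⟩ := Groth.DAlg.exists_free_rep A hz
    let P := ((tilde.functor RA).mapHomologicalComplex up).obj Q
    let eP : DCoh.toD _ P ≅ (DCoh.tildeD RA).obj M :=
      ((tilde.functor RA).mapDerivedCategoryFactors.app Q).symm ≪≫ (DCoh.tildeD RA).mapIso eQ
    have hst : ∀ x : Spec RA, DRing.HasTorAmplitudeIn ((Spec RA).presheaf.stalk x) a b
        (DRing.toD ((StalkAmp.stkCx x).obj P)) :=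
      (StalkAmp.stalkAmp_toD_iff P a b).1 ((StalkAmp.stalkAmp_of_flatAmp h).of_iso eP.symm)
    have hQflat : ∀ i, Module.Flat A (Q.X i) := fun i => haveI := hQf i; inferInstance
    have hPb : ∀ x : Spec RA, DRing.VanishesAbove ((StalkAmp.stkCx x).obj P) b := fun x i hi =>
      (stk x).map_isZero ((tilde.functor RA).map_isZero (hQ i hi))
    have hPf : ∀ x : Spec RA, DRing.TermwiseFlat ((StalkAmp.stkCx x).obj P) := fun x i =>
      haveI := KFlat.flat_extendScalars (Groth.Agent.S1121.toStalkRing x).hom (Q.X i) (hQflat i)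
      Module.Flat.of_linearEquiv
        (M := ((ModuleCat.extendScalars (Groth.Agent.S1121.toStalkRing x).hom).obj (Q.X i)))
        ((Groth.Agent.S1121.tildeStkIso x).app (Q.X i)).toLinearEquiv
    have hcoker : Module.Flat A (Coker Q (a - 1) a) := by
      refine flat_of_stalk_tilde (ModuleCat.of A (Coker Q (a - 1) a)) fun x => ?_
      have : ∀ i, Module.Flat ((Spec RA).presheaf.stalk x) (((StalkAmp.stkCx x).obj P).X i) := hPf x
      have h1 := Groth.DAlg.flat_coker_of_isZero ((StalkAmp.stkCx x).obj P) a fun N =>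
        Groth.DAlg.isZero_of_torAmplitude _ (hPb x) (hPf x) (hst x) N (a - 1) (.inl (by omega))
      let G := tilde.functor RA ⋙ stk x
      let e : G.obj (ModuleCat.of A (Coker Q (a - 1) a)) ≅
          ModuleCat.of _ (Coker ((StalkAmp.stkCx x).obj P) (a - 1) a) :=
        G.mapIso (ModuleCat.cokernelIsoRangeQuotient (Q.d (a - 1) a)).symm ≪≫
          PreservesCokernel.iso G _ ≪≫ ModuleCat.cokernelIsoRangeQuotient _
      exact Module.Flat.of_linearEquiv e.toLinearEquiv
    have hlow : ∀ i < a, IsZero (Q.homology i) := fun i hi => by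
      refine ((isZero_HD_iff M i).1 (KFlat.isZero_hd_of_iso eP.symm ((KFlat.isZero_hd_toD_iff P i).2
        (StalkAmp.exactAt_of_stalk P i fun x => ?_)))).of_iso
        (((DerivedCategory.homologyFunctorFactors _ i).app Q).symm ≪≫
          (DerivedCategory.homologyFunctor _ i).mapIso eQ)
      rw [exactAt_iff_isZero_homology]
      exact Groth.DAlg.isZero_homology_of_tensor fun N =>
        Groth.DAlg.isZero_of_torAmplitude _ (hPb x) (hPf x) (hst x) N i (.inl hi)
    obtain ⟨e'⟩ := Groth.DAlg.nonempty_truncGE_iso hlow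
    let Φ : ObjectProperty (ModuleCat.{u} A) := fun X => Module.Flat A X
    have : Φ.IsClosedUnderIsomorphisms :=
      ⟨fun {X Y} e (hX : Module.Flat A X) => Module.Flat.of_linearEquiv e.toLinearEquiv.symm⟩
    exact ⟨Q.truncGE a, Groth.DAlg.vanishesOutside_truncGE Q a hQ,
      Groth.DAlg.truncGE_X_of_prop Φ Q a
        (fun X hX => haveI := ModuleCat.subsingleton_of_isZero hX; show Module.Flat A X from inferInstance)
        (fun i _ => hQflat i) hcoker,
      ⟨e' ≪≫ eQ⟩⟩
  · rintro ⟨E, hE, hf, ⟨e⟩⟩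
    exact ⟨((tilde.functor RA).mapHomologicalComplex up).obj E,
      fun i hi => (tilde.functor RA).map_isZero (hE i hi),
      fun i x => haveI := KFlat.flat_extendScalars (Groth.Agent.S1121.toStalkRing x).hom (E.X i) (hf i)
        Module.Flat.of_linearEquiv
        (M := ((ModuleCat.extendScalars (Groth.Agent.S1121.toStalkRing x).hom).obj (E.X i)))
        ((Groth.Agent.S1121.tildeStkIso x).app (E.X i)).toLinearEquiv,
      ⟨((tilde.functor RA).mapDerivedCategoryFactors.app E).symm ≪≫ (DCoh.tildeD RA).mapIso e⟩⟩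

theorem isPerfect_tildeD_iff (M : Dual.D A) :
    DCoh.IsPerfect ((DCoh.tildeD RA).obj M) ↔ DRing.IsPerfect A M := by
  constructor
  · intro h
    have hp := (Groth.KTheory.Perf.isPerfect_iff _).1 h
    choose V hxV hV using hp
    choose a b hab hamp using fun x => PCoh.exists_flatAmp_of_perfOn (hV x)
    obtain ⟨t, ht⟩ := isCompact_univ.elim_finite_subcover (fun x => (V x : Set (Spec RA))) (fun x => (V x).2)
      (fun x _ => Set.mem_iUnion.2 ⟨x, hxV x⟩)
    obtain ⟨lo, hlo⟩ := (t.image a).bddBelow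
    obtain ⟨hi', hhi'⟩ := (t.image b).bddAbove
    let lo' := min lo hi'
    have hglob : DCoh.HasFlatAmplitudeIn lo' hi' ((DCoh.tildeD RA).obj M) := by
      refine StalkAmp.flatAmp_of_local fun y => ?_
      obtain ⟨x, hx, hy⟩ := Set.mem_iUnion₂.1 (ht (Set.mem_univ y))
      obtain ⟨E, hE, hf, e⟩ := hamp x
      have h1 : lo ≤ a x := hlo (Finset.mem_coe.2 (Finset.mem_image_of_mem a hx))
      have h2 : b x ≤ hi' := hhi' (Finset.mem_coe.2 (Finset.mem_image_of_mem b hx))
      exact ⟨V x, hy, E, fun i hi => hE i (by omega), hf, e⟩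
    obtain ⟨E, hE, hf, e⟩ := Groth.DAlg.exists_finProj_of_pseudoCoherent
      ((isPseudoCoherentD_tildeD_iff M (lo' - 1)).1 (PCoh.isPseudoCoherentD_of_isPerfect h _))
      ((hasFlatAmplitudeIn_tildeD_iff M lo' hi').1 hglob) (by omega)
    exact ⟨E, lo', hi', hE, hf, e⟩
  · rintro ⟨E, a, b, hE, hf, ⟨e⟩⟩
    exact Groth.KTheory.Perf.isPerfect_of_iso
      (((tilde.functor RA).mapDerivedCategoryFactors.app E).symm ≪≫ (DCoh.tildeD RA).mapIso e)
      (Fibre.isPerfect_toD (isStrictlyPerfect_tilde hE hf))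

end

end Groth.DerivedCoh.TildeD
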